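import Mathlib

/-!
Subgroups generated by `p`-elements and the Sylow fixed-point slack.
-/

set_option autoImplicit false

namespace Cfsg.Agent.Lib.SylowFix

open Subgroup Function

variable {G : Type*} [Group G] {p : ℕ}

/-- `x` has `p`-power order. -/
def IsPEl (p : ℕ) (x : G) : Prop := ∃ k : ℕ, x ^ (p ^ k) = 1

theorem IsPEl.conj {x : G} (h : IsPEl p x) (g : G) : IsPEl p (g * x * g⁻¹) := by
  obtain ⟨k, hk⟩ := h
  exact ⟨k, by rw [conj_pow, hk, mul_one, mul_inv_cancel]⟩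

theorem IsPEl.pow {x : G} (h : IsPEl p x) (n : ℕ) : IsPEl p (x ^ n) := by
  obtain ⟨k, hk⟩ := h
  exact ⟨k, by rw [← pow_mul, mul_comm, pow_mul, hk, one_pow]⟩

theorem IsPEl.of_mem_sylow {x : G} (Q : Sylow p G) (hx : x ∈ Q) : IsPEl p x := by
  obtain ⟨k, hk⟩ := Q.isPGroup' ⟨x, hx⟩
  exact ⟨k, by simpa using congrArg Subtype.val hk⟩

/-- The subgroup generated by the `p`-elements of `K`. -/
def pcl (p : ℕ) (K : Subgroup G) : Subgroup G := closure {x | x ∈ K ∧ IsPEl p x}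

theorem mem_pcl {K : Subgroup G} {x : G} (hx : x ∈ K) (h : IsPEl p x) : x ∈ pcl p K :=
  subset_closure ⟨hx, h⟩

theorem pcl_le (K : Subgroup G) : pcl p K ≤ K := (closure_le _).2 fun _ h => h.1

theorem pcl_pcl (K : Subgroup G) : pcl p (pcl p K) = pcl p K :=
  le_antisymm (pcl_le _) ((closure_le _).2 fun _ h => mem_pcl (mem_pcl h.1 h.2) h.2)

theorem pcl_le_of_forall {K D : Subgroup G} (h : ∀ x ∈ K, IsPEl p x → x ∈ D) : pcl p K ≤ D :=
  (closure_le _).2 fun x hx => h x hx.1 hx.2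

theorem sylow_le_pcl {K : Subgroup G} {Q : Sylow p G} (h : (Q : Subgroup G) ≤ K) :
    (Q : Subgroup G) ≤ pcl p K := fun _ hx => mem_pcl (h hx) (IsPEl.of_mem_sylow Q hx)

/-- Conjugation of subgroups. -/
def cj : G →* Equiv.Perm (Subgroup G) where
  toFun g :=
    { toFun := fun L => L.map (MulAut.conj g).toMonoidHom
      invFun := fun L => L.map (MulAut.conj g⁻¹).toMonoidHom
      left_inv := fun L => by ext x; simp [Subgroup.mem_map, mul_assoc]
      right_inv := fun L => by ext x; simp [Subgroup.mem_map, mul_assoc] }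
  map_one' := by ext L x; simp [Subgroup.mem_map]
  map_mul' g h := by ext L x; simp [Subgroup.mem_map, mul_assoc]

theorem mem_cj {g x : G} {L : Subgroup G} : x ∈ cj g L ↔ g⁻¹ * x * g ∈ L := by
  constructor
  · rintro ⟨y, hy, rfl⟩
    simpa [mul_assoc] using hy
  · intro h
    exact ⟨g⁻¹ * x * g, h, by simp [mul_assoc]⟩

theorem cj_inv_le {g : G} {A B : Subgroup G} : A ≤ cj g B ↔ cj g⁻¹ A ≤ B := by
  constructor
  · intro h x hx
    simpa [mul_assoc] using mem_cj.1 (h (mem_cj.1 hx))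
  · intro h x hx
    rw [mem_cj]
    refine h (mem_cj.2 ?_)
    simpa [mul_assoc] using hx

theorem cj_mono {g : G} {A B : Subgroup G} (h : A ≤ B) : cj g A ≤ cj g B :=
  Subgroup.map_mono h

theorem pcl_cj (g : G) (K : Subgroup G) : pcl p (cj g K) = cj g (pcl p K) := by
  have key : ∀ (h : G) (M : Subgroup G), cj h (pcl p M) ≤ pcl p (cj h M) := by
    intro h M
    show (pcl p M).map _ ≤ _
    rw [pcl, MonoidHom.map_closure, closure_le]
    rintro _ ⟨x, ⟨hx, hp⟩, rfl⟩
    refine mem_pcl ⟨x, hx, rfl⟩ ?_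
    simpa using hp.conj h
  refine le_antisymm ?_ (key g K)
  rw [cj_inv_le]
  refine (key g⁻¹ (cj g K)).trans (le_of_eq ?_)
  rw [← Equiv.Perm.mul_apply, ← map_mul, inv_mul_cancel, map_one, Equiv.Perm.one_apply]

theorem cj_eq_iff_norm {g : G} {L : Subgroup G} :
    cj g L = L ↔ g ∈ normalizer (L : Set G) := by
  rw [mem_normalizer_iff]
  constructor
  · intro h x
    conv_rhs => rw [← h, mem_cj]
    simp [mul_assoc]
  · intro h
    ext x
    rw [mem_cj, h (g⁻¹ * x * g)]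
    simp [mul_assoc]

theorem card_cj (g : G) (L : Subgroup G) : Nat.card ↥(cj g L) = Nat.card ↥L :=
  (Nat.card_congr (L.equivMapOfInjective _ (MulAut.conj g).injective).toEquiv).symm

variable [Finite G] [hp : Fact p.Prime]

/-- `L` contains a Sylow `p`-subgroup of the ambient group. -/
def Full (p : ℕ) (L : Subgroup G) : Prop := ∃ Q : Sylow p G, (Q : Subgroup G) ≤ L

/-- A `p`-element normalising a subgroup of index prime to `p` lies in it. -/
theorem mem_of_norm {D : Subgroup G} (hD : Full p D) {y : G} (hy : IsPEl p y)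
    (hn : y ∈ normalizer (D : Set G)) : y ∈ D := by
  obtain ⟨Q, hQ⟩ := hD
  let N := normalizer (D : Set G)
  let D' := D.subgroupOf N
  haveI : D'.Normal := Subgroup.normal_in_normalizer
  let q : N ⧸ D' := QuotientGroup.mk ⟨y, hn⟩
  obtain ⟨k, hk⟩ := hy
  have h1 : orderOf q ∣ p ^ k := by
    apply orderOf_dvd_of_pow_eq_one
    rw [← QuotientGroup.mk_pow, show (⟨y, hn⟩ : N) ^ p ^ k = 1 from Subtype.ext (by simpa using hk),
      QuotientGroup.mk_one]
  have h2 : Nat.card (N ⧸ D') ∣ (Q : Subgroup G).index :=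
    dvd_trans (relIndex_dvd_index_of_le le_normalizer) (index_dvd_of_le hQ)
  have h3 : ¬ p ∣ (Q : Subgroup G).index := Q.not_dvd_index
  have h4 : orderOf q ∣ (Q : Subgroup G).index := (orderOf_dvd_natCard q).trans h2
  obtain ⟨i, -, hi⟩ := (Nat.dvd_prime_pow hp.out).1 h1
  rcases Nat.eq_zero_or_pos i with rfl | hpos
  · rw [pow_zero, orderOf_eq_one_iff, QuotientGroup.eq_one_iff] at hi
    simpa [D', mem_subgroupOf] using hi
  · exact absurd ((dvd_pow_self p hpos.ne').trans (hi ▸ h4)) h3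

theorem le_of_norm {L D : Subgroup G} (hL : pcl p L = L) (hD : Full p D)
    (hn : L ≤ normalizer (D : Set G)) : L ≤ D :=
  hL ▸ pcl_le_of_forall fun _ hx hxp => mem_of_norm hD hxp (hn hx)

theorem sylow_le_of_norm {D : Subgroup G} (hD : Full p D) {Q : Sylow p G}
    (hn : (Q : Subgroup G) ≤ normalizer (D : Set G)) : (Q : Subgroup G) ≤ D :=
  fun _ hx => mem_of_norm hD (IsPEl.of_mem_sylow Q hx) (hn hx)

theorem exists_conj_sylow {K : Subgroup G} {P Q : Sylow p G} (hP : (P : Subgroup G) ≤ K)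
    (hQ : (Q : Subgroup G) ≤ K) : ∃ k ∈ K, cj k (P : Subgroup G) = (Q : Subgroup G) := by
  obtain ⟨k, hk⟩ := MulAction.exists_smul_eq (↥K) (P.subtype hP) (Q.subtype hQ)
  rw [Sylow.smul_subtype] at hk
  refine ⟨k, k.2, ?_⟩
  rw [← Sylow.subtype_injective hk]
  rfl

theorem exists_sylow_of_pEl {K : Subgroup G} {P : Sylow p G} (hP : (P : Subgroup G) ≤ K)
    {x : G} (hx : x ∈ K) (hxp : IsPEl p x) : ∃ k ∈ K, x ∈ cj k (P : Subgroup G) := by
  have hz : IsPGroup p (zpowers (⟨x, hx⟩ : K)) := by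
    obtain ⟨k, hk⟩ := hxp
    rintro ⟨_, n, rfl⟩
    refine ⟨k, Subtype.ext ?_⟩
    simp only [SubmonoidClass.coe_pow, OneMemClass.coe_one, Subtype.ext_iff]
    rw [SubgroupClass.coe_zpow, ← zpow_natCast, ← zpow_mul, mul_comm, zpow_mul,
      zpow_natCast, hk, one_zpow]
  obtain ⟨R, hR⟩ := hz.exists_le_sylow
  obtain ⟨k, rfl⟩ := MulAction.exists_smul_eq (↥K) (P.subtype hP) R
  rw [Sylow.smul_subtype] at hR
  exact ⟨k, k.2, hR (mem_zpowers _)⟩

end Cfsg.Agent.Lib.SylowFix
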